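/-
Monomial matrices and transvections of `SL_n`.
-/
import Mathlib.LinearAlgebra.Matrix.SpecialLinearGroup
import Mathlib.GroupTheory.Perm.Fin
import Cfsg.Agent.Classical.Transvections

set_option autoImplicit false

namespace CfsgLib.An

open Matrix

variable {F : Type*} [Field F] {n : ℕ}

/-- Abbreviation for `SL_n`. -/
abbrev SLn (n : ℕ) (F : Type*) [Field F] := Matrix.SpecialLinearGroup (Fin n) F

/-- The action on column vectors. -/
def act (A : SLn n F) (v : Fin n → F) : Fin n → F := A.1 *ᵥ v

theorem act_mul (A B : SLn n F) (v : Fin n → F) : act (A * B) v = act A (act B v) := by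
  simp [act, Matrix.mulVec_mulVec]

theorem act_one (v : Fin n → F) : act (1 : SLn n F) v = v := by simp [act]

theorem act_inv_act (A : SLn n F) (v : Fin n → F) : act A⁻¹ (act A v) = v := by
  rw [← act_mul, inv_mul_cancel, act_one]

theorem act_single (A : SLn n F) (j : Fin n) (c : F) :
    act A (Pi.single j c) = fun i => A.1 i j * c := by
  funext i
  simp [act, Matrix.mulVec_single]

/-- The root element. -/
def xt (i j : Fin n) (t : F) : SLn n F :=
  if h : i ≠ j then SpecialLinearGroup.transvection h t else 1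

theorem xt_coe {i j : Fin n} (h : i ≠ j) (t : F) : (xt i j t : SLn n F).1 = transvection i j t := by
  rw [xt, dif_pos h]; rfl

theorem xt_eq {i j : Fin n} (h : i ≠ j) (t : F) : xt i j t = SpecialLinearGroup.transvection h t :=
  dif_pos h

theorem xt_add {i j : Fin n} (h : i ≠ j) (t u : F) :
    xt i j (t + u) = (xt i j t * xt i j u : SLn n F) := by
  rw [xt_eq h, xt_eq h, xt_eq h, SpecialLinearGroup.transvection_add]

theorem xt_zero (i j : Fin n) : xt i j (0 : F) = 1 := by
  rcases eq_or_ne i j with h | h
  · rw [xt, dif_neg (by simpa using h)]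
  · exact Subtype.ext (by rw [xt_coe h, Matrix.transvection_zero]; rfl)

theorem xt_inv {i j : Fin n} (h : i ≠ j) (t : F) : (xt i j t : SLn n F)⁻¹ = xt i j (-t) := by
  rw [inv_eq_iff_mul_eq_one, ← xt_add h, add_neg_cancel, xt_zero]

theorem act_xt_single {i j : Fin n} (h : i ≠ j) (u : F) (k : Fin n) (c : F) :
    act (xt i j u) (Pi.single k c) = Pi.single k c + if k = j then Pi.single i (u * c) else 0 := by
  funext a
  rw [act_single, xt_coe h]
  simp only [transvection, Matrix.add_apply, Matrix.one_apply, Matrix.single_apply, Pi.add_apply]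
  rcases eq_or_ne k j with rfl | hk
  · rw [if_pos rfl]
    rcases eq_or_ne a i with rfl | ha
    · simp [h, Pi.single_apply]
    · simp [Pi.single_apply, ha, Ne.symm ha]
  · simp [hk, Ne.symm hk, Pi.single_apply]

/-- Transpose-inverse. -/
def tiN : SLn n F →* SLn n F :=
  MonoidHom.mk' (fun g => ⟨(g⁻¹ : SLn n F).1.transpose, by rw [Matrix.det_transpose]; exact (g⁻¹).2⟩)
    fun g h => Subtype.ext (by
      show ((g * h)⁻¹ : SLn n F).1.transpose = _
      rw [_root_.mul_inv_rev, Matrix.SpecialLinearGroup.coe_mul, Matrix.transpose_mul]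
      rfl)

theorem tiN_coe (g : SLn n F) : (tiN g).1 = (g⁻¹ : SLn n F).1.transpose := rfl

theorem tiN_xt {i j : Fin n} (h : i ≠ j) (t : F) : tiN (xt i j t) = xt j i (-t) := by
  apply Subtype.ext
  rw [tiN_coe, xt_inv h, xt_coe h, xt_coe h.symm]
  simp [transvection, Matrix.transpose_add, Matrix.transpose_single, ← Matrix.single_neg]

/-- If the row of `k` in `g` is the one of `j` in the identity, then `tiN g` maps `e_j` to `e_k`. -/
theorem act_tiN {g : SLn n F} {j k : Fin n} (h : ∀ x, g.1 k x = (1 : Matrix (Fin n) (Fin n) F) j x) :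
    act (tiN g) (Pi.single j 1) = Pi.single k 1 := by
  rw [act_single]
  funext i
  rw [tiN_coe, Matrix.transpose_apply, mul_one]
  have e : ((g * g⁻¹ : SLn n F)).1 k i = (1 : Matrix (Fin n) (Fin n) F) k i := by
    rw [mul_inv_cancel]; rfl
  rw [Matrix.SpecialLinearGroup.coe_mul, Matrix.mul_apply] at e
  simp only [h, Matrix.one_apply, ite_mul, one_mul, zero_mul, Finset.sum_ite_eq,
    Finset.mem_univ, if_true] at e
  rw [e, Pi.single_apply]
  exact if_congr eq_comm rfl rfl

/-- A monomial matrix of determinant one with two prescribed columns. -/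
theorem exists_mono (hn : 3 ≤ n) {a b a' b' : Fin n} (hab : a ≠ b) (hab' : a' ≠ b') {c d : F}
    (hc : c ≠ 0) (hd : d ≠ 0) :
    ∃ A : SLn n F, act A (Pi.single a 1) = Pi.single a' c ∧ act A (Pi.single b 1) = Pi.single b' d ∧
      (∀ x, A.1 a' x = if x = a then c else 0) ∧ (∀ x, A.1 b' x = if x = b then d else 0) ∧
      ∀ t : F, A * xt a b t = xt a' b' (c * t / d) * A := by
  classical
  obtain ⟨p, hp⟩ : ∃ p : Fin n, p ≠ a ∧ p ≠ b := by
    obtain ⟨p, -, hp⟩ := Finset.exists_mem_notMem_of_card_lt_card (s := {a, b}) (t := Finset.univ) (by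
      rw [Finset.card_univ, Fintype.card_fin]; exact lt_of_le_of_lt Finset.card_le_two hn)
    exact ⟨p, by simpa using hp⟩
  let σ : Equiv.Perm (Fin n) := Equiv.swap b' (Equiv.swap a a' b) * Equiv.swap a a'
  have hne : Equiv.swap a a' b ≠ a' := fun h => hab.symm (by
    have := congrArg (Equiv.swap a a') h
    rwa [Equiv.swap_apply_self, Equiv.swap_apply_right] at this)
  have σa : σ a = a' := by
    show Equiv.swap b' (Equiv.swap a a' b) (Equiv.swap a a' a) = a'
    rw [Equiv.swap_apply_left, Equiv.swap_apply_of_ne_of_ne hab' hne.symm]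
  have σb : σ b = b' := by
    show Equiv.swap b' (Equiv.swap a a' b) (Equiv.swap a a' b) = b'
    rw [Equiv.swap_apply_right]
  let s : F := (((Equiv.Perm.sign σ : ℤˣ) : ℤ) : F)
  have hs : s * s = 1 := by
    rcases Int.units_eq_one_or (Equiv.Perm.sign σ) with h | h <;> simp [s, h]
  let δ : Fin n → F := fun x =>
    (if x = a then c else 1) * (if x = b then d else 1) * (if x = p then s * c⁻¹ * d⁻¹ else 1)
  have hδ : ∏ x, δ x = s := by
    simp only [δ, Finset.prod_mul_distrib, Finset.prod_ite_eq', Finset.mem_univ, if_true]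
    field_simp
  have δa : δ a = c := by simp [δ, hab, Ne.symm hp.1]
  have δb : δ b = d := by simp [δ, hab.symm, Ne.symm hp.2]
  let M₀ : Matrix (Fin n) (Fin n) F := (Matrix.diagonal δ).submatrix σ.symm id
  have hdet : M₀.det = 1 := by
    simp only [M₀, Matrix.det_permute, Equiv.Perm.sign_symm, Matrix.det_diagonal, hδ]
    exact hs
  let A : SLn n F := ⟨M₀, hdet⟩
  have hA : ∀ i x, A.1 i x = if i = σ x then δ x else 0 := by
    intro i x
    show Matrix.diagonal δ (σ.symm i) x = _
    rw [Matrix.diagonal_apply]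
    by_cases h : i = σ x
    · subst h; simp
    · rw [if_neg h, if_neg]
      exact fun e => h (by rw [← e, Equiv.apply_symm_apply])
  refine ⟨A, ?_, ?_, fun x => ?_, fun x => ?_, fun t => ?_⟩
  · rw [act_single]; funext i; rw [hA, mul_one, σa, δa, Pi.single_apply]
  · rw [act_single]; funext i; rw [hA, mul_one, σb, δb, Pi.single_apply]
  · rw [hA]
    rcases eq_or_ne x a with rfl | hx
    · rw [if_pos σa.symm, if_pos rfl, δa]
    · rw [if_neg hx, if_neg]
      exact fun e => hx (σ.injective (e.symm.trans σa.symm))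
  · rw [hA]
    rcases eq_or_ne x b with rfl | hx
    · rw [if_pos σb.symm, if_pos rfl, δb]
    · rw [if_neg hx, if_neg]
      exact fun e => hx (σ.injective (e.symm.trans σb.symm))
  · apply Subtype.ext
    rw [Matrix.SpecialLinearGroup.coe_mul, Matrix.SpecialLinearGroup.coe_mul, xt_coe hab,
      xt_coe hab']
    simp only [transvection, Matrix.mul_add, Matrix.mul_one, Matrix.add_mul, Matrix.one_mul]
    congr 1
    ext i x
    rcases eq_or_ne x b with rfl | hx
    · rw [Matrix.mul_single_apply_same]
      rcases eq_or_ne i a' with rfl | hi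
      · rw [Matrix.single_mul_apply_same, hA, hA, if_pos σa.symm, if_pos σb.symm, δa, δb]
        field_simp
      · rw [Matrix.single_mul_apply_of_ne _ _ _ _ _ hi, hA, if_neg (by rwa [σa]), zero_mul]
    · rw [Matrix.mul_single_apply_of_ne _ _ _ _ _ hx]
      rcases eq_or_ne i a' with rfl | hi
      · rw [Matrix.single_mul_apply_same, hA, if_neg, mul_zero]
        exact fun e => hx (σ.injective (e.symm.trans σb.symm))
      · rw [Matrix.single_mul_apply_of_ne _ _ _ _ _ hi]

/-- A subgroup with all adjacent root elements avoiding one column has all. -/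
theorem xt_mem_of_adj {m : ℕ} (H : Subgroup (SLn (m + 1) F))
    (hadj : ∀ j k : Fin (m + 1), (j.val = k.val + 1 ∨ k.val = j.val + 1) → k ≠ Fin.last m →
      ∀ u, xt j k u ∈ H) :
    ∀ j k : Fin (m + 1), j ≠ k → k ≠ Fin.last m → ∀ u, xt j k u ∈ H := by
  suffices ∀ d (j k : Fin (m + 1)), j ≠ k → (j.val - k.val) + (k.val - j.val) = d →
      k ≠ Fin.last m → ∀ u, xt j k u ∈ H from
    fun j k h h' => this _ j k h rfl h'
  intro d
  induction d using Nat.strong_induction_on with
  | _ d ih =>
    intro j k hjk hd hk u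
    have hjk' : j.val ≠ k.val := fun h => hjk (Fin.ext h)
    by_cases h1 : j.val = k.val + 1 ∨ k.val = j.val + 1
    · exact hadj j k h1 hk u
    push Not at h1
    have hkl : k.val < m := by
      have := Fin.val_lt_last hk
      simpa using this
    let q : Fin (m + 1) := if j.val < k.val then ⟨k.val - 1, by omega⟩ else ⟨k.val + 1, by omega⟩
    have hq : (j.val < k.val → q.val = k.val - 1) ∧ (k.val < j.val → q.val = k.val + 1) := by
      constructor <;> intro h <;> simp only [q]
      · rw [if_pos h]
      · rw [if_neg (by omega)]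
    have hjl : j.val ≤ m := by omega
    have hjq : j ≠ q := fun h => by have := congrArg Fin.val h; omega
    have hqk : q ≠ k := fun h => by have := congrArg Fin.val h; omega
    have hql : q ≠ Fin.last m := fun h => by
      have := congrArg Fin.val h; rw [Fin.val_last] at this; omega
    have e : xt j k u = xt j q u * xt q k 1 * (xt j q u)⁻¹ * (xt q k (1 : F))⁻¹ := by
      rw [xt_eq hjk, xt_eq hjq, xt_eq hqk]
      have := Linear.transvection_commutator_three hjk hjq hqk u
      rw [this, commutatorElement_def]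
    have m1 := ih _ (by omega) j q hjq rfl hql u
    have m2 : xt q k (1 : F) ∈ H := hadj q k (by omega) hk 1
    rw [e]
    exact mul_mem (mul_mem (mul_mem m1 m2) (inv_mem m1)) (inv_mem m2)

end CfsgLib.An
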