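/-
Elements satisfying Steinberg's relations give a map of `SL_n`.
-/
import Cfsg.Agent.StPres.RankN

set_option autoImplicit false

namespace CfsgLib.An

open Matrix

universe u v

/-- A map of `SL_n` from elements satisfying Steinberg's relations. -/
theorem exists_hom {K : Type u} [Field K] [Finite K] {M : Type v} [Group M] {n : ℕ} (hn : 3 ≤ n)
    (x : Fin n → Fin n → K → M)
    (hadd : ∀ i j, i ≠ j → ∀ t u, x i j (t + u) = x i j t * x i j u)
    (hfar : ∀ i j k l, i ≠ j → k ≠ l → i ≠ l → j ≠ k → ∀ t u, Commute (x i j t) (x k l u))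
    (hnear : ∀ i j l, i ≠ j → j ≠ l → i ≠ l → ∀ t u,
      x i j t * x j l u * (x i j t)⁻¹ * (x j l u)⁻¹ = x i l (t * u)) :
    ∃ φ : SpecialLinearGroup (Fin n) K →* M,
      ∀ i j (h : i ≠ j) (t : K), φ (SpecialLinearGroup.transvection h t) = x i j t := by
  obtain ⟨m, rfl⟩ : ∃ m, n = m + 3 := ⟨n - 3, by omega⟩
  let P : Subgroup (M × SpecialLinearGroup (Fin (m + 3)) K) := Subgroup.closure
    {z | ∃ (i j : Fin (m + 3)) (h : i ≠ j) (t : K), z = (x i j t, SpecialLinearGroup.transvection h t)}
  let X : Fin (m + 3) → Fin (m + 3) → K → P := fun i j t =>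
    if h : i ≠ j then ⟨(x i j t, SpecialLinearGroup.transvection h t),
      Subgroup.subset_closure ⟨i, j, h, t, rfl⟩⟩ else 1
  let R : StPres.StN K (m + 3) P :=
    { x := X
      add := fun i j h t u => by
        simp only [X, dif_pos h]
        exact Subtype.ext (Prod.ext (hadd i j h t u).symm
          (SpecialLinearGroup.transvection_add h t u).symm)
      far := fun i j k l h1 h2 h3 h4 t u => by
        simp only [X, dif_pos h1, dif_pos h2]
        exact Subtype.ext (Prod.ext
          (by
            show x i j t * x k l u * (x i j t)⁻¹ * (x k l u)⁻¹ = 1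
            rw [(hfar i j k l h1 h2 h3 h4 t u).eq, mul_inv_cancel_right, mul_inv_cancel])
          (StPres.transv_far h1 h2 h3 h4 t u))
      near := fun i j l h1 h2 h3 t u => by
        simp only [X, dif_pos h1, dif_pos h2, dif_pos h3]
        exact Subtype.ext (Prod.ext (hnear i j l h1 h2 h3 t u) (StPres.transv_near h1 h2 h3 t u))
      gen := by
        refine Subgroup.map_injective (Subgroup.subtype_injective _) ?_
        rw [MonoidHom.map_closure, ← MonoidHom.range_eq_map, Subgroup.range_subtype]
        refine congrArg Subgroup.closure (Set.ext fun z => ⟨?_, ?_⟩)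
        · rintro ⟨_, ⟨i, j, h, t, rfl⟩, rfl⟩
          exact ⟨i, j, h, t, congrArg Subtype.val (dif_pos h)⟩
        · rintro ⟨i, j, h, t, rfl⟩
          exact ⟨X i j t, ⟨i, j, h, t, rfl⟩, congrArg Subtype.val (dif_pos h)⟩
      π := (MonoidHom.snd _ _).comp P.subtype
      π_x := fun i j h t => by
        simp only [X, dif_pos h]
        rfl }
  let e := MulEquiv.ofBijective R.π (StPres.StN.π_bijective R)
  refine ⟨((MonoidHom.fst _ _).comp P.subtype).comp e.symm.toMonoidHom, fun i j h t => ?_⟩
  have he : e (X i j t) = SpecialLinearGroup.transvection h t :=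
    Subtype.ext ((R.π_x i j h t).trans (CfsgLib.Linear.transvec_coe h t).symm)
  show (e.symm (SpecialLinearGroup.transvection h t)).1.1 = _
  rw [← he, e.symm_apply_apply]
  simp only [X, dif_pos h]

end CfsgLib.An
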