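/-
The embedding of a smaller special linear group on some coordinates.
-/
import Cfsg.Agent.An.Mono
import Cfsg.Agent.En.SixRoot

set_option autoImplicit false

namespace CfsgLib.An

open Matrix

variable {F : Type*} [Field F] {r n : ℕ}

open Classical in
/-- The coordinates split into the image and the rest. -/
noncomputable def embEquiv (f : Fin r → Fin n) (hf : Function.Injective f) :
    Fin r ⊕ {x // ¬ x ∈ Set.range f} ≃ Fin n :=
  (Equiv.sumCongr (Equiv.ofInjective f hf) (Equiv.refl _)).trans
    (Equiv.sumCompl fun x => x ∈ Set.range f)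

theorem embEquiv_inl (f : Fin r → Fin n) (hf : Function.Injective f) (i : Fin r) :
    embEquiv f hf (.inl i) = f i := by
  simp [embEquiv]

open Classical in
/-- The matrix of the embedding. -/
noncomputable def embM (f : Fin r → Fin n) (hf : Function.Injective f)
    (g : Matrix (Fin r) (Fin r) F) : Matrix (Fin n) (Fin n) F :=
  Matrix.reindex (embEquiv f hf) (embEquiv f hf) (Matrix.fromBlocks g 0 0 1)

theorem embM_det (f : Fin r → Fin n) (hf : Function.Injective f) (g : Matrix (Fin r) (Fin r) F) :
    (embM f hf g).det = g.det := by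
  classical
  simp [embM]

theorem embM_mul (f : Fin r → Fin n) (hf : Function.Injective f)
    (g h : Matrix (Fin r) (Fin r) F) : embM f hf (g * h) = embM f hf g * embM f hf h := by
  classical
  simp only [embM, Matrix.reindex_apply, Matrix.submatrix_mul_equiv, Matrix.fromBlocks_multiply]
  simp

/-- `SL_r` on the coordinates in the image of `f`. -/
noncomputable def emb (f : Fin r → Fin n) (hf : Function.Injective f) : SLn r F →* SLn n F :=
  MonoidHom.mk' (fun g => ⟨embM f hf g.1, (embM_det f hf g.1).trans g.2⟩)
    fun g h => Subtype.ext (embM_mul f hf g.1 h.1)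

theorem emb_xt (f : Fin r → Fin n) (hf : Function.Injective f) {i j : Fin r} (h : i ≠ j) (t : F) :
    emb f hf (xt i j t) = xt (f i) (f j) t := by
  classical
  apply Subtype.ext
  rw [xt_coe (hf.ne h)]
  show embM f hf (xt i j t).1 = _
  rw [xt_coe h]
  ext x y
  obtain ⟨x, rfl⟩ := (embEquiv f hf).surjective x
  obtain ⟨y, rfl⟩ := (embEquiv f hf).surjective y
  simp only [embM, Matrix.reindex_apply, Matrix.submatrix_apply, Equiv.symm_apply_apply]
  simp only [transvection, Matrix.add_apply, Matrix.one_apply, Matrix.single_apply,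
    ← embEquiv_inl f hf i, ← embEquiv_inl f hf j, EmbeddingLike.apply_eq_iff_eq]
  rcases x with x | x <;> rcases y with y | y <;>
    simp [transvection, Matrix.one_apply, Matrix.single_apply]

theorem up_eq (t : F) : (QP.up t : En.SL2 F) = xt (0 : Fin 2) 1 t := by
  apply Subtype.ext
  rw [xt_coe (by decide)]
  ext i j
  fin_cases i <;> fin_cases j <;> simp [QP.up_coe, transvection]

theorem low_eq (t : F) : (QP.low t : En.SL2 F) = xt (1 : Fin 2) 0 t := by
  apply Subtype.ext
  rw [xt_coe (by decide)]
  ext i j
  fin_cases i <;> fin_cases j <;> simp [QP.low_coe, transvection]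

theorem pair_inj {a b : Fin n} (h : a ≠ b) : Function.Injective ![a, b] := by
  intro x y e
  fin_cases x <;> fin_cases y <;> simp_all [h.symm]

/-- `SL_2` on two coordinates. -/
noncomputable def emb2 {a b : Fin n} (h : a ≠ b) : En.SL2 F →* SLn n F := emb ![a, b] (pair_inj h)

theorem emb2_up {a b : Fin n} (h : a ≠ b) (t : F) : emb2 h (QP.up t) = xt a b t := by
  rw [emb2, up_eq, emb_xt _ _ (by decide)]; rfl

theorem emb2_low {a b : Fin n} (h : a ≠ b) (t : F) : emb2 h (QP.low t) = xt b a t := by
  rw [emb2, low_eq, emb_xt _ _ (by decide)]; rfl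

end CfsgLib.An
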